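import Mathlib

/-!
An upper bound for the order of a finite group from normal forms: each level lists generators and representatives,
and every generator times a representative is again in normal form.
-/

set_option autoImplicit false

namespace Cfsg.Lib.J4NonLocal.AutM

/-- A level: further generators, representatives, the tree by which the representatives arise, and the certificates,
one for each generator from this level downwards and each representative. -/
structure Lv where
  gens : List ℕ
  reps : List ℕ
  tree : List (ℕ × ℕ)
  cert : List (List (List ℕ))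

/-- The generators from a level downwards. -/
def allGens : List Lv → List ℕ
  | [] => []
  | K :: r => K.gens ++ allGens r

/-- A list of one representative for each level. -/
def inNF : List Lv → List ℕ → Bool
  | [], [] => true
  | K :: r, a :: l => K.reps.contains a && inNF r l
  | _, _ => false

/-- The certificates of a level. -/
def Lv.certOK (eq : ℕ → ℕ → List ℕ → Bool) (K : Lv) (r : List Lv) : Bool :=
  (List.range (allGens (K :: r)).length).all fun i => (List.range K.reps.length).all fun k =>
    inNF (K :: r) ((K.cert.getD i []).getD k []) &&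
      eq ((allGens (K :: r)).getD i 0) (K.reps.getD k 0) ((K.cert.getD i []).getD k [])

/-- The tree of a level: the first representative is the identity node, each further one a generator times an earlier
one. -/
def Lv.treeOK (e0 : ℕ) (K : Lv) (r : List Lv) : Bool :=
  (K.reps.getD 0 (e0 + 1) == e0) && (K.tree.length + 1 == K.reps.length) &&
    (List.range K.tree.length).all fun k => (fun p : ℕ × ℕ =>
      decide (p.1 < (allGens (K :: r)).length) && decide (p.2 ≤ k) &&
        ((K.cert.getD p.1 []).getD p.2 [] == K.reps.getD (k + 1) 0 :: List.replicate r.length e0)) (K.tree.getD k (0, 0))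

/-- All levels. -/
def chainOK (eq : ℕ → ℕ → List ℕ → Bool) (e0 : ℕ) : List Lv → Bool
  | [] => true
  | K :: r => K.certOK eq r && K.treeOK e0 r && chainOK eq e0 r

/-- The number of normal forms. -/
def size : List Lv → ℕ
  | [] => 1
  | K :: r => K.reps.length * size r

variable {H : Type*} [Group H] (f : ℕ → H)

/-- The normal forms. -/
def nfSet : List Lv → Set H
  | [] => {1}
  | K :: r => Set.image2 (fun t y => f t * y) {t | t ∈ K.reps} (nfSet r)

theorem prod_mem_nfSet : ∀ {L : List Lv} {l : List ℕ}, inNF L l = true → (l.map f).prod ∈ nfSet f L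
  | [], [], _ => by simp [nfSet]
  | K :: r, a :: l, h => by
    simp only [inNF, Bool.and_eq_true, List.contains_iff_mem] at h
    exact ⟨a, h.1, _, prod_mem_nfSet h.2, rfl⟩
  | [], _ :: _, h => by simp [inNF] at h
  | _ :: _, [], h => by simp [inNF] at h

theorem nfSet_finite : ∀ L : List Lv, (nfSet f L).Finite
  | [] => Set.finite_singleton _
  | K :: r => Set.Finite.image2 _ (List.finite_toSet _) (nfSet_finite r)

theorem ncard_nfSet_le : ∀ L : List Lv, (nfSet f L).ncard ≤ size L
  | [] => by simp [nfSet, size]
  | K :: r => by
    rw [nfSet, size, ← Set.image_prod]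
    refine (Set.ncard_image_le ((List.finite_toSet _).prod (nfSet_finite f r))).trans ?_
    rw [Set.ncard_prod]
    refine Nat.mul_le_mul ?_ (ncard_nfSet_le r)
    classical
    rw [show {t | t ∈ K.reps} = (K.reps.toFinset : Set ℕ) by ext; simp, Set.ncard_coe_finset]
    exact List.toFinset_card_le _

/-- The normal forms contain one, are closed under the generators of the levels and products, and consist of products
of those generators. -/
theorem nf_closed {eq : ℕ → ℕ → List ℕ → Bool} {e0 : ℕ} (he : f e0 = 1)
    (heq : ∀ s t l, eq s t l = true → f s * f t = (l.map f).prod) : ∀ L : List Lv, chainOK eq e0 L = true →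
      (1 ∈ nfSet f L) ∧ (∀ s ∈ allGens L, ∀ x ∈ nfSet f L, f s * x ∈ nfSet f L) ∧
        (∀ x ∈ nfSet f L, ∀ y ∈ nfSet f L, x * y ∈ nfSet f L) ∧
        ∀ x ∈ nfSet f L, x ∈ Submonoid.closure (f '' {s | s ∈ allGens L})
  | [], _ => by simp [nfSet, allGens]
  | K :: r, h => by
    simp only [chainOK, Bool.and_eq_true] at h
    obtain ⟨⟨hc, ht⟩, hr⟩ := h
    obtain ⟨h1, -, hm, hg⟩ := nf_closed he heq r hr
    simp only [Lv.certOK, List.all_eq_true, List.mem_range, Bool.and_eq_true] at hc
    simp only [Lv.treeOK, List.all_eq_true, List.mem_range, Bool.and_eq_true, beq_iff_eq, decide_eq_true_eq] at ht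
    obtain ⟨⟨h0, hlen⟩, htree⟩ := ht
    have h0m : e0 ∈ K.reps := by
      rw [← h0, List.getD_eq_getElem _ _ (by omega)]
      exact List.getElem_mem _
    have hleft : ∀ s ∈ allGens (K :: r), ∀ x ∈ nfSet f (K :: r), f s * x ∈ nfSet f (K :: r) := by
      rintro s hs _ ⟨t, ht, y, hy, rfl⟩
      obtain ⟨i, hi, rfl⟩ := List.getElem_of_mem hs
      obtain ⟨k, hk, rfl⟩ := List.getElem_of_mem (show t ∈ K.reps from ht)
      obtain ⟨hnf, hq⟩ := hc i hi k hk
      rw [List.getD_eq_getElem _ _ hi, List.getD_eq_getElem _ _ hk] at hq
      have e := heq _ _ _ hq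
      obtain ⟨t', ht', p, hp, ep⟩ := prod_mem_nfSet f hnf
      refine ⟨t', ht', p * y, hm _ hp _ hy, ?_⟩
      show f t' * (p * y) = f _ * (f _ * y)
      rw [← mul_assoc, ← mul_assoc]
      exact congrArg (· * y) (ep.trans e.symm)
    have hsub : ∀ x ∈ Submonoid.closure (f '' {s | s ∈ allGens r}),
        x ∈ Submonoid.closure (f '' {s | s ∈ allGens (K :: r)}) := fun x hx =>
      Submonoid.closure_mono (Set.image_mono fun s hs => List.mem_append_right _ hs) hx
    have hrep : ∀ k < K.reps.length, f (K.reps.getD k 0) ∈ Submonoid.closure (f '' {s | s ∈ allGens (K :: r)}) := by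
      intro k
      induction k using Nat.strong_induction_on with
      | _ k ih =>
        intro hk
        rcases k with _ | k
        · have : K.reps.getD 0 0 = e0 := by
            rw [List.getD_eq_getElem _ _ hk]
            rwa [List.getD_eq_getElem _ _ hk] at h0
          rw [this, he]; exact one_mem _
        · obtain ⟨⟨hp1, hp2⟩, hp3⟩ := htree k (by omega)
          have hpk : (K.tree.getD k (0, 0)).2 < K.reps.length := by omega
          have hq := (hc _ hp1 _ hpk).2
          rw [hp3] at hq
          have e := heq _ _ _ hq
          rw [List.map_cons, List.prod_cons, List.map_replicate, he, List.prod_replicate, one_pow, mul_one] at e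
          rw [← e]
          refine mul_mem (Submonoid.subset_closure ⟨_, ?_, rfl⟩) (ih _ (by omega) hpk)
          show _ ∈ allGens (K :: r)
          rw [List.getD_eq_getElem _ _ hp1]
          exact List.getElem_mem _
    have hgen : ∀ x ∈ nfSet f (K :: r), x ∈ Submonoid.closure (f '' {s | s ∈ allGens (K :: r)}) := by
      rintro _ ⟨t, ht, y, hy, rfl⟩
      obtain ⟨k, hk, rfl⟩ := List.getElem_of_mem (show t ∈ K.reps from ht)
      refine mul_mem ?_ (hsub _ (hg y hy))
      rw [← List.getD_eq_getElem (d := 0) _ hk]
      exact hrep k hk
    refine ⟨⟨e0, h0m, 1, h1, by simp [he]⟩, hleft, fun x hx y hy => ?_, hgen⟩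
    have key : ∀ z ∈ Submonoid.closure (f '' {s | s ∈ allGens (K :: r)}),
        ∀ w ∈ nfSet f (K :: r), z * w ∈ nfSet f (K :: r) := by
      intro z hz
      induction hz using Submonoid.closure_induction with
      | mem a ha =>
        obtain ⟨s, hs, rfl⟩ := ha
        exact hleft s hs
      | one => intro w hw; rwa [one_mul]
      | mul a b _ _ iha ihb => intro w hw; rw [mul_assoc]; exact iha _ (ihb _ hw)
    exact key x (hgen x hx) y hy

/-- A finite group generated by the generators of the levels is no larger than the number of normal forms. -/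
theorem card_le_size [Finite H] {eq : ℕ → ℕ → List ℕ → Bool} {e0 : ℕ} (he : f e0 = 1)
    (heq : ∀ s t l, eq s t l = true → f s * f t = (l.map f).prod) (L : List Lv) (hL : chainOK eq e0 L = true)
    (hcl : Subgroup.closure (f '' {s | s ∈ allGens L}) = ⊤) : Nat.card H ≤ size L := by
  obtain ⟨h1, hleft, -, -⟩ := nf_closed f he heq L hL
  have hall : ∀ x : H, x ∈ nfSet f L := by
    intro x
    have hx : x ∈ Submonoid.closure (f '' {s | s ∈ allGens L}) := by
      have : x ∈ (Subgroup.closure (f '' {s | s ∈ allGens L})).toSubmonoid := hcl ▸ Subgroup.mem_top x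
      rwa [Subgroup.closure_toSubmonoid_of_finite] at this
    have key : ∀ w ∈ nfSet f L, x * w ∈ nfSet f L := by
      induction hx using Submonoid.closure_induction with
      | mem a ha =>
        obtain ⟨s, hs, rfl⟩ := ha
        exact hleft s hs
      | one => intro w hw; rwa [one_mul]
      | mul a b _ _ iha ihb => intro w hw; rw [mul_assoc]; exact iha _ (ihb _ hw)
    simpa using key 1 h1
  rw [← Set.ncard_univ, ← Set.eq_univ_of_forall hall]
  exact ncard_nfSet_le f L

end Cfsg.Lib.J4NonLocal.AutM
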