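import Cfsg.Agent.J4NonLocal.AutM.Table

/-!
Finite checks for the subgroup M22:2.
-/

set_option autoImplicit false
set_option maxRecDepth 20000
set_option Elab.async false

namespace Cfsg.Lib.J4NonLocal.AutM

open Cfsg.Lib.J4Cert

theorem prog0_ok : progOK nd 4 ndProg0 = true := by decide +kernel
theorem prog1_ok : progOK nd 84 ndProg1 = true := by decide +kernel
theorem prog2_ok : progOK nd 164 ndProg2 = true := by decide +kernel
theorem prog3_ok : progOK nd 244 ndProg3 = true := by decide +kernel
theorem prog4_ok : progOK nd 324 ndProg4 = true := by decide +kernel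
theorem prog5_ok : progOK nd 404 ndProg5 = true := by decide +kernel

end Cfsg.Lib.J4NonLocal.AutM
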