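import Cfsg.Agent.J4NonLocal.AutM.Table

/-!
Finite checks for the subgroup M22:2.
-/

set_option autoImplicit false
set_option maxRecDepth 20000
set_option Elab.async false

namespace Cfsg.Lib.J4NonLocal.AutM

open Cfsg.Lib.J4Cert

theorem prog6_ok : progOK nd 484 ndProg6 = true := by decide +kernel
theorem prog7_ok : progOK nd 564 ndProg7 = true := by decide +kernel
theorem prog8_ok : progOK nd 644 ndProg8 = true := by decide +kernel
theorem prog9_ok : progOK nd 724 ndProg9 = true := by decide +kernel
theorem prog10_ok : progOK nd 804 ndProg10 = true := by decide +kernel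
theorem prog11_ok : progOK nd 884 ndProg11 = true := by decide +kernel

end Cfsg.Lib.J4NonLocal.AutM
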