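import Cfsg.Agent.J4NonLocal.AutM.Table

/-!
Finite checks for the subgroup M22:2.
-/

set_option autoImplicit false
set_option maxRecDepth 20000
set_option Elab.async false

namespace Cfsg.Lib.J4NonLocal.AutM

open Cfsg.Lib.J4Cert

theorem lv0_ok : lv0.certOK eqA [lv1, lv2, lv3, lv4, lv5] = true := by decide +kernel

theorem lv4_ok : lv4.certOK eqA [lv5] = true := by decide +kernel

theorem lv5_ok : lv5.certOK eqA [] = true := by decide +kernel

theorem trees_ok : lv0.treeOK amOne [lv1, lv2, lv3, lv4, lv5] = true ∧ lv1.treeOK amOne [lv2, lv3, lv4, lv5] = true ∧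
    lv2.treeOK amOne [lv3, lv4, lv5] = true ∧ lv3.treeOK amOne [lv4, lv5] = true ∧ lv4.treeOK amOne [lv5] = true ∧
    lv5.treeOK amOne [] = true := by decide +kernel

end Cfsg.Lib.J4NonLocal.AutM
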