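import Cfsg.Agent.J4NonLocal.AutM.Table

/-!
Finite checks for the subgroup M22:2.
-/

set_option autoImplicit false
set_option maxRecDepth 20000
set_option Elab.async false

namespace Cfsg.Lib.J4NonLocal.AutM

open Cfsg.Lib.J4Cert

theorem lv2_ok : lv2.certOK eqA [lv3, lv4, lv5] = true := by decide +kernel

end Cfsg.Lib.J4NonLocal.AutM
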