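import Cfsg.Agent.J4NonLocal.AutM.Table

/-!
Finite checks for the subgroup M22:2.
-/

set_option autoImplicit false
set_option maxRecDepth 20000
set_option Elab.async false

namespace Cfsg.Lib.J4NonLocal.AutM

open Cfsg.Lib.J4Cert

theorem steps_ok : (List.range amProg.length).all (fun k => stepOK (k + 4) (amProg.getD k (0, 0))) = true := by
  decide +kernel

theorem shape_ok : amProg.length = 101 ∧ amNode.length = 105 ∧ amPerm.length = 105 ∧
    (amNode.all fun j => Nat.blt j 909) = true ∧ amNode.take 4 = [237, 310, 777, 825] ∧ amOne < 105 ∧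
    leq (aM amOne) J4Rep.idMat = true ∧ Golay.FusionCert.same [aP amOne] [] = true ∧
    ((List.range 105).all fun k => PermCert.valid 24 (aP k)) = true ∧
    (allGens [lv0, lv1, lv2, lv3, lv4, lv5]).all (fun g => Nat.blt g 105) = true ∧
    (List.range 4).all (fun g => (allGens [lv0, lv1, lv2, lv3, lv4, lv5]).contains g) = true ∧
    size [lv0, lv1, lv2, lv3, lv4, lv5] = 887040 := by decide +kernel

end Cfsg.Lib.J4NonLocal.AutM
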