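import Cfsg.Agent.J4NonLocal.AutM.Model
import Cfsg.Agent.J4NonLocal.AutM.CheckA
import Cfsg.Agent.J4NonLocal.AutM.CheckB
import Cfsg.Agent.J4NonLocal.AutM.CheckC
import Cfsg.Agent.J4NonLocal.AutM.CheckD
import Cfsg.Agent.J4NonLocal.AutM.CheckE
import Cfsg.Agent.J4NonLocal.AutM.CheckF
import Cfsg.Agent.J4NonLocal.AutM.CheckG
import Cfsg.Agent.J4Cert.CentQ

/-!
A subgroup isomorphic to the automorphism group of the Mathieu group on 22 points inside the fourth Janko group.
-/

set_option autoImplicit false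
set_option maxRecDepth 20000
set_option Elab.async false
set_option linter.style.haveILetI false

namespace Cfsg.Lib.J4NonLocal.AutM

open Cfsg Cfsg.Lib.J4Cert Cfsg.Lib.PermCert Cfsg.Lib.Golay

theorem gen_perms : Golay.FusionCert.same [aP 0] [JankoFour.Data.alpha] = true ∧
    Golay.FusionCert.same [aP 1] [JankoFour.Data.beta] = true ∧
    Golay.FusionCert.same [aP 2] [JankoFour.Data.gamma] = true ∧
    Golay.FusionCert.same [aP 3] [JankoFour.Data.sigma] = true ∧
    valid 24 JankoFour.Data.alpha = true ∧ valid 24 JankoFour.Data.beta = true ∧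
    valid 24 JankoFour.Data.gamma = true ∧ valid 24 JankoFour.Data.sigma = true := by decide +kernel

theorem nontriv : leq (nd 237) J4Rep.idMat = false := by decide +kernel

theorem leq_refl : leq J4Rep.idMat J4Rep.idMat = true := by decide +kernel

theorem nd_low (l : ℕ) (h : l < 4) : nd l = letM l := by
  rw [nd, show Nat.blt l 4 = true from by simpa using h]; rfl

theorem prog_lengths : (([ndProg0, ndProg1, ndProg2, ndProg3, ndProg4, ndProg5, ndProg6, ndProg7, ndProg8, ndProg9,
    ndProg10, ndProg11].map List.length).sum = 905) ∧ ndProg0.length = 80 ∧ ndProg1.length = 80 ∧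
    ndProg2.length = 80 ∧ ndProg3.length = 80 ∧ ndProg4.length = 80 ∧ ndProg5.length = 80 ∧ ndProg6.length = 80 ∧
    ndProg7.length = 80 ∧ ndProg8.length = 80 ∧ ndProg9.length = 80 ∧ ndProg10.length = 80 ∧
    ndProg11.length = 25 := by decide +kernel

attribute [local irreducible] mB mPow nd aM aP prodA leq ndTab ndProg0 ndProg1 ndProg2 ndProg3 ndProg4 ndProg5
  ndProg6 ndProg7 ndProg8 ndProg9 ndProg10 ndProg11 amNode amPerm amProg amOne lv0 lv1 lv2 lv3 lv4 lv5

theorem nd_mem : ∀ j < 909, ∃ g, MOK g (nd j) := by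
  obtain ⟨-, l0, l1, l2, l3, l4, l5, l6, l7, l8, l9, l10, l11⟩ := prog_lengths
  have step : ∀ {k n m : ℕ} {P : List (ℕ × ℕ)}, progOK nd k P = true → P.length = n → k + n = m →
      (∀ j < k, ∃ g, MOK g (nd j)) → ∀ j < m, ∃ g, MOK g (nd j) := by
    intro k n m P h hn hm h0 j hj
    exact progOK_sound nd_low P k h h0 j (by omega)
  have h0 : ∀ j < 4, ∃ g, MOK g (nd j) := fun j hj => ⟨letG j, nd_low j hj ▸ letM_ok j⟩
  exact step (m := 909) prog11_ok l11 rfl (step (m := 884) prog10_ok l10 rfl (step (m := 804) prog9_ok l9 rfl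
    (step (m := 724) prog8_ok l8 rfl (step (m := 644) prog7_ok l7 rfl (step (m := 564) prog6_ok l6 rfl
    (step (m := 484) prog5_ok l5 rfl (step (m := 404) prog4_ok l4 rfl (step (m := 324) prog3_ok l3 rfl
    (step (m := 244) prog2_ok l2 rfl (step (m := 164) prog1_ok l1 rfl (step (m := 84) prog0_ok l0 rfl h0)))))))))))

/-- The element of a node. -/
noncomputable def nel (j : ℕ) : Spor.J4 := if h : j < 909 then (nd_mem j h).choose else 1

theorem nel_ok {j : ℕ} (h : j < 909) : MOK (nel j) (nd j) := by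
  rw [nel, dif_pos h]; exact (nd_mem j h).choose_spec

/-- The first generator, of order eleven. -/
noncomputable def m22a : Spor.J4 := nel 237
/-- The second generator, of order five. -/
noncomputable def m22b : Spor.J4 := nel 310
/-- The third generator, of order four. -/
noncomputable def m22c : Spor.J4 := nel 777
/-- The outer generator. -/
noncomputable def m22s : Spor.J4 := nel 825
/-- An element of order ten normalising the group of order eleven. -/
noncomputable def m22h : Spor.J4 := nel 441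
/-- A further element of order four. -/
noncomputable def m22v : Spor.J4 := nel 764

theorem a_mok : MOK m22a (nd 237) := nel_ok (by norm_num)
theorem b_mok : MOK m22b (nd 310) := nel_ok (by norm_num)
theorem c_mok : MOK m22c (nd 777) := nel_ok (by norm_num)
theorem s_mok : MOK m22s (nd 825) := nel_ok (by norm_num)
theorem h_mok : MOK m22h (nd 441) := nel_ok (by norm_num)
theorem v_mok : MOK m22v (nd 764) := nel_ok (by norm_num)

/-- The four generators. -/
noncomputable def m22gen : Fin 4 → Spor.J4 := ![m22a, m22b, m22c, m22s]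

/-- The subgroup M22:2. -/
noncomputable def S22 : Subgroup Spor.J4 := Subgroup.closure (Set.range m22gen)

theorem a_ne : m22a ≠ 1 := fun h => by
  have h1 : MOK (1 : Spor.J4) (nd 237) := h ▸ a_mok
  exact Bool.false_ne_true (by rw [← nontriv, h1.mat_eq MOK.one rfl]; exact leq_refl)

/-- An element with its two components. -/
noncomputable def aEl (k : ℕ) : Equiv.Perm GolayPt × Spor.J4 := (toP (aP k), nel (amNode.getD k 0))

theorem aEl_ok {k : ℕ} (hk : k < 105) : Rep (aEl k).1 [aP k] ∧ MOK (aEl k).2 (aM k) := by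
  obtain ⟨-, hl, -, hn, -, -, -, -, hv, -⟩ := shape_ok
  simp only [List.all_eq_true, List.mem_range, Nat.blt_eq] at hn hv
  refine ⟨rep_toP (hv k hk), ?_⟩
  unfold aM aEl
  refine nel_ok (hn _ ?_)
  rw [List.getD_eq_getElem _ _ (by omega)]
  exact List.getElem_mem _

theorem eq_of_checks {x y : Equiv.Perm GolayPt × Spor.J4} {p q : List PP} {A B : List ℕ} (hx : Rep x.1 p)
    (hy : Rep y.1 q) (hA : MOK x.2 A) (hB : MOK y.2 B) (h1 : Golay.FusionCert.same p q = true)
    (h2 : leq A B = true) : x = y :=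
  Prod.ext ((hx.eq_iff hy).mpr h1) (hA.eq (leq_eq h2 ▸ hB))

theorem aEl_one : aEl amOne = 1 := by
  obtain ⟨-, -, -, -, -, ho, h1, h2, -⟩ := shape_ok
  exact eq_of_checks (aEl_ok ho).1 rep_one (aEl_ok ho).2 MOK.one h2 h1

theorem prodA_ok : ∀ {l : List ℕ}, (∀ q ∈ l, q < 105) →
    Rep ((l.map aEl).prod).1 (l.map aP) ∧ MOK ((l.map aEl).prod).2 (prodA l)
  | [], _ => ⟨by simpa using rep_one, by simpa [prodA] using MOK.one⟩
  | [a], h => by
    have := aEl_ok (h a List.mem_cons_self)
    simpa [prodA] using this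
  | a :: b :: l, h => by
    obtain ⟨h1, h2⟩ := aEl_ok (h a List.mem_cons_self)
    obtain ⟨h3, h4⟩ := prodA_ok (l := b :: l) fun q hq => h q (List.mem_cons_of_mem a hq)
    rw [List.map_cons, List.prod_cons, List.map_cons, prodA]
    exact ⟨h1.mul h3, h2.mul h4⟩

theorem prod_strip (l : List ℕ) : ((strip l).map aEl).prod = (l.map aEl).prod := by
  induction l with
  | nil => rfl
  | cons a l ih =>
    by_cases h : a = amOne
    · subst h
      rw [strip, List.filter_cons_of_neg (by simp), List.map_cons, List.prod_cons, aEl_one, one_mul]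
      exact ih
    · rw [strip, List.filter_cons_of_pos (by rw [Bool.not_eq_true', ← Bool.not_eq_true, Nat.beq_eq]; exact h), List.map_cons, List.map_cons, List.prod_cons,
        List.prod_cons]
      exact congrArg _ ih

theorem eqA_sound (s t : ℕ) (l : List ℕ) (h : eqA s t l = true) : aEl s * aEl t = (l.map aEl).prod := by
  simp only [eqA, Bool.and_eq_true, List.all_eq_true, Nat.blt_eq] at h
  obtain ⟨⟨⟨⟨h1, h2⟩, hs⟩, ht⟩, hl⟩ := h
  obtain ⟨p1, p2⟩ := prodA_ok (l := strip l) fun q hq => hl q (List.mem_filter.1 hq).1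
  rw [← prod_strip]
  exact eq_of_checks ((aEl_ok hs).1.mul (aEl_ok ht).1) p1 ((aEl_ok hs).2.mul (aEl_ok ht).2) p2 h2 h1

theorem aEl_gen (i : Fin 4) : aEl i.val = (gperm i, m22gen i) := by
  obtain ⟨-, hl, -, -, ht, -⟩ := shape_ok
  obtain ⟨e0, e1, e2, e3, v0, v1, v2, v3⟩ := gen_perms
  have hget : ∀ j < 4, amNode.getD j 0 = [237, 310, 777, 825].getD j 0 := fun j hj => by
    rw [← ht]
    simp [List.getD_eq_getElem?_getD, hj]
  have hp := fun (j : ℕ) (hj : j < 105) => (aEl_ok hj).1
  fin_cases i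
  · exact Prod.ext (((hp 0 (by norm_num)).eq_iff (rep_toP v0)).mpr e0) (congrArg nel (hget 0 (by norm_num)))
  · exact Prod.ext (((hp 1 (by norm_num)).eq_iff (rep_toP v1)).mpr e1) (congrArg nel (hget 1 (by norm_num)))
  · exact Prod.ext (((hp 2 (by norm_num)).eq_iff (rep_toP v2)).mpr e2) (congrArg nel (hget 2 (by norm_num)))
  · exact Prod.ext (((hp 3 (by norm_num)).eq_iff (rep_toP v3)).mpr e3) (congrArg nel (hget 3 (by norm_num)))

theorem aEl_mem : ∀ k < 105, aEl k ∈ pairH m22gen := by
  obtain ⟨hp, -⟩ := shape_ok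
  have hs := steps_ok
  simp only [List.all_eq_true, List.mem_range, stepOK, Bool.and_eq_true, Nat.blt_eq] at hs
  intro k
  induction k using Nat.strong_induction_on with
  | _ k ih =>
    intro hk
    by_cases h4 : k < 4
    · have e := aEl_gen ⟨k, h4⟩
      rw [show aEl k = _ from e]
      exact Subgroup.subset_closure ⟨⟨k, h4⟩, rfl⟩
    · obtain ⟨j, rfl⟩ : ∃ j, k = j + 4 := ⟨k - 4, by omega⟩
      obtain ⟨⟨⟨ha, hb⟩, he⟩, hsame⟩ := hs j (by omega)
      have pa := aEl_ok (k := (amProg.getD j (0, 0)).1) (by omega)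
      have pb := aEl_ok (k := (amProg.getD j (0, 0)).2) (by omega)
      have e : aEl (amProg.getD j (0, 0)).1 * aEl (amProg.getD j (0, 0)).2 = aEl (j + 4) :=
        Prod.ext (((aEl_ok hk).1.eq_iff (pa.1.mul pb.1)).mpr hsame).symm
          ((pa.2.mul pb.2).eq (leq_eq he ▸ (aEl_ok hk).2))
      rw [← e]
      exact mul_mem (ih _ ha (by omega)) (ih _ hb (by omega))

theorem card_pairs : Nat.card (pairH m22gen) ≤ 887040 := by
  haveI := finite_J4
  obtain ⟨-, -, -, -, -, ho, -, -, -, hg, h4, hsz⟩ := shape_ok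
  obtain ⟨t0, t1, t2, t3, t4, t5⟩ := trees_ok
  let f : ℕ → pairH m22gen := fun k => if h : k < 105 then ⟨aEl k, aEl_mem k h⟩ else 1
  have hf : ∀ k, k < 105 → ((f k : pairH m22gen) : Equiv.Perm GolayPt × Spor.J4) = aEl k := fun k hk => by
    simp [f, hk]
  have hprod : ∀ l : List ℕ, (∀ q ∈ l, q < 105) →
      (((l.map f).prod : pairH m22gen) : Equiv.Perm GolayPt × Spor.J4) = (l.map aEl).prod := fun l hl => by
    rw [SubmonoidClass.coe_list_prod, List.map_map]
    exact congrArg List.prod (List.map_congr_left fun q hq => hf q (hl q hq))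
  have hok : chainOK eqA amOne [lv0, lv1, lv2, lv3, lv4, lv5] = true := by
    simp only [chainOK, lv0_ok, lv1_ok, lv2_ok, lv3_ok, lv4_ok, lv5_ok, t0, t1, t2, t3, t4, t5, Bool.and_true]
  rw [← hsz]
  refine card_le_size f (Subtype.ext (by rw [hf _ ho, aEl_one]; rfl)) (fun s t l h => ?_) _ hok ?_
  · have h' := h
    simp only [eqA, Bool.and_eq_true, List.all_eq_true, Nat.blt_eq] at h'
    refine Subtype.ext ?_
    rw [Subgroup.coe_mul, hf s h'.1.1.2, hf t h'.1.2, hprod l h'.2]
    exact eqA_sound s t l h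
  · simp only [List.all_eq_true, List.mem_range, List.contains_iff_mem] at h4
    refine eq_top_iff.2 fun x _ => ?_
    have key : pairH m22gen ≤ (Subgroup.closure (f '' {s | s ∈ allGens [lv0, lv1, lv2, lv3, lv4, lv5]})).map
        (pairH m22gen).subtype := (Subgroup.closure_le _).2 (by
      rintro _ ⟨i, rfl⟩
      refine ⟨f i.val, Subgroup.subset_closure ⟨i.val, h4 _ i.isLt, rfl⟩, ?_⟩
      show ((f i.val : pairH m22gen) : Equiv.Perm GolayPt × Spor.J4) = _
      rw [hf _ (by omega), aEl_gen])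
    obtain ⟨y, hy, e⟩ := key x.2
    have : y = x := Subtype.ext e
    rwa [this] at hy

theorem exists_m22_two : Nonempty (↥S22 ≃* MulAut ↥Cfsg.Spor.M22) :=
  exists_aut m22gen card_pairs a_ne

end Cfsg.Lib.J4NonLocal.AutM
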