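import Cfsg.Agent.J4NonLocal.AutM.Main

/-!
The elements of order ten and four of the given pair lie in the subgroup M22:2.
-/

set_option autoImplicit false
set_option maxRecDepth 20000
set_option Elab.async false

namespace Cfsg.Lib.J4NonLocal.AutM

open Cfsg Cfsg.Lib.J4Cert

theorem words_ok : leq (prodA wordH) (nd 441) = true ∧ leq (prodA wordV) (nd 764) = true ∧
    (wordH.all fun q => Nat.blt q 4) = true ∧ (wordV.all fun q => Nat.blt q 4) = true := by decide +kernel

attribute [local irreducible] mB nd aM prodA leq wordH wordV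

theorem word_mem {l : List ℕ} (hl : (l.all fun q => Nat.blt q 4) = true) :
    ((l.map aEl).prod).2 ∈ S22 ∧ MOK ((l.map aEl).prod).2 (prodA l) := by
  simp only [List.all_eq_true, Nat.blt_eq] at hl
  refine ⟨?_, (prodA_ok fun q hq => (hl q hq).trans (by norm_num)).2⟩
  induction l with
  | nil => simpa using one_mem S22
  | cons a l ih =>
    rw [List.map_cons, List.prod_cons, Prod.snd_mul]
    refine mul_mem ?_ (ih fun q hq => hl q (List.mem_cons_of_mem a hq))
    rw [show aEl a = (gperm ⟨a, hl a List.mem_cons_self⟩, m22gen ⟨a, hl a List.mem_cons_self⟩) from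
      aEl_gen ⟨a, hl a List.mem_cons_self⟩]
    exact Subgroup.subset_closure ⟨⟨a, hl a List.mem_cons_self⟩, rfl⟩

theorem m22a_mem : m22a ∈ S22 := Subgroup.subset_closure ⟨0, rfl⟩

theorem m22h_mem : m22h ∈ S22 := by
  obtain ⟨h1, -, h3, -⟩ := words_ok
  obtain ⟨hm, ho⟩ := word_mem h3
  rw [h_mok.eq (leq_eq h1 ▸ ho)]
  exact hm

theorem m22v_mem : m22v ∈ S22 := by
  obtain ⟨-, h2, -, h4⟩ := words_ok
  obtain ⟨hm, ho⟩ := word_mem h4
  rw [v_mok.eq (leq_eq h2 ▸ ho)]
  exact hm

end Cfsg.Lib.J4NonLocal.AutM
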