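import Cfsg.Agent.JankoFour.DuadStab
import Cfsg.Agent.J4Cert.Order

/-!
A subgroup isomorphic to the automorphism group of the Mathieu group on 22 points, from a bound on the group
generated by pairs of a permutation and an element.
-/

set_option autoImplicit false
set_option maxRecDepth 100000
set_option linter.style.haveILetI false

namespace Cfsg.Lib.J4NonLocal.AutM

open Cfsg Cfsg.Lib.PermCert Cfsg.Lib.Golay Cfsg.Lib.JankoFour
open Cfsg.Lib.Golay.FusionCert (same)
open scoped Pointwise

/-- The stabiliser of the pair of distinguished points. -/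
noncomputable abbrev duadP : Subgroup (Equiv.Perm GolayPt) :=
  Cfsg.M24 ⊓ MulAction.stabilizer (Equiv.Perm GolayPt) ({none, some 0} : Set GolayPt)

/-- The permutations of four generators. -/
noncomputable def gperm : Fin 4 → Equiv.Perm GolayPt :=
  ![toP Data.alpha, toP Data.beta, toP Data.gamma, toP Data.sigma]

theorem m22_iff (x : Equiv.Perm GolayPt) : x ∈ Spor.M22 ↔ x ∈ Cfsg.M24 ∧ x none = none ∧ x (some 0) = some 0 := by
  simp only [Cfsg.Spor.M22, Cfsg.Spor.M23, Subgroup.mem_inf]
  exact ⟨fun ⟨⟨h1, h2⟩, h3⟩ => ⟨h1, h2, h3⟩, fun ⟨h1, h2, h3⟩ => ⟨⟨h1, h2⟩, h3⟩⟩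

theorem sigma_swaps : toP Data.sigma ∈ Cfsg.M24 ∧ toP Data.sigma none = some 0 ∧ toP Data.sigma (some 0) = none := by
  obtain ⟨-, -, -, -, -, -, -, -, hsp, hs0, hs1, hsv, -⟩ := gens_check
  refine ⟨toP_mem_M24 hsp, ?_, ?_⟩
  · have h := toP_ptAt hsv (show (23 : ℕ) < 24 by norm_num)
    rwa [hs0] at h
  · have h := toP_ptAt hsv (show (0 : ℕ) < 24 by norm_num)
    rwa [hs1] at h

theorem m22_le_closure : Spor.M22 ≤ Subgroup.closure (Set.range gperm) := by
  obtain ⟨hg, -⟩ := gens_check
  obtain ⟨htop, hlen, hval⟩ := top_check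
  have hgv : ∀ i, valid 24 (gPP.getD i Data.alpha) = true ∧
      toP (gPP.getD i Data.alpha) ∈ Subgroup.closure (Set.range gperm) := by
    intro i
    have hmem : gPP.getD i Data.alpha ∈ gPP := by
      by_cases hi : i < gPP.length
      · rw [List.getD_eq_getElem _ _ hi]; exact List.getElem_mem _
      · rw [List.getD_eq_default _ _ (not_lt.mp hi)]; exact List.mem_cons_self
    have h := List.all_eq_true.mp hg _ hmem
    rw [Bool.and_eq_true] at h
    refine ⟨h.1, Subgroup.subset_closure ?_⟩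
    generalize gPP.getD i Data.alpha = p at hmem ⊢
    simp only [gPP, List.mem_cons, List.not_mem_nil, or_false] at hmem
    rcases hmem with e | e | e
    exacts [⟨0, by rw [e]; rfl⟩, ⟨1, by rw [e]; rfl⟩, ⟨2, by rw [e]; rfl⟩]
  have rw' : ∀ w : List ℕ, Rep ((w.map fun i => toP (gPP.getD i Data.alpha)).prod) (wPP w) := by
    intro w
    induction w with
    | nil => exact rep_one
    | cons i w ih =>
      rw [List.map_cons, List.prod_cons]
      exact (rep_toP (hgv i).1).mul ih
  rw [M22_eq, ← chain_eq, onPts, grp, MonoidHom.map_closure, Subgroup.closure_le]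
  rintro _ ⟨_, ⟨t, ht, rfl⟩, rfl⟩
  obtain ⟨i, hi, rfl⟩ := List.getElem_of_mem ht
  have h := List.all_eq_true.mp htop i (List.mem_range.mpr (hlen ▸ hi))
  rw [List.getD_eq_getElem _ _ hi] at h
  have e : toP ((topGens cgAutM22.chain)[i]) = ((Data.topW.getD i []).map fun j => toP (gPP.getD j Data.alpha)).prod :=
    ((rep_toP (List.all_eq_true.mp hval _ (List.getElem_mem hi))).eq_iff (rw' _)).mpr h
  show toP ((topGens cgAutM22.chain)[i]) ∈ Subgroup.closure (Set.range gperm)
  rw [e]
  refine list_prod_mem fun y hy => ?_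
  obtain ⟨j, -, rfl⟩ := List.mem_map.mp hy
  exact (hgv j).2

theorem duadP_le : duadP ≤ Subgroup.closure (Set.range gperm) := by
  intro x hx
  obtain ⟨hx1, hx2⟩ := Subgroup.mem_inf.mp hx
  obtain ⟨hs, hsa, hsb⟩ := sigma_swaps
  have hset : x • ({none, some 0} : Set GolayPt) = {none, some 0} := MulAction.mem_stabilizer_iff.mp hx2
  have hxa : x none ∈ ({none, some 0} : Set GolayPt) := hset ▸ ⟨none, Or.inl rfl, rfl⟩
  have hxb : x (some 0) ∈ ({none, some 0} : Set GolayPt) := hset ▸ ⟨some 0, Or.inr rfl, rfl⟩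
  rcases hxa with e | e <;> rcases hxb with e' | e'
  · exact absurd (x.injective (e.trans e'.symm)) (by simp)
  · exact m22_le_closure ((m22_iff x).mpr ⟨hx1, e, e'⟩)
  · have hy : x * toP Data.sigma ∈ Spor.M22 := (m22_iff _).mpr ⟨mul_mem hx1 hs,
      by rw [Equiv.Perm.mul_apply, hsa]; exact e', by rw [Equiv.Perm.mul_apply, hsb]; exact e⟩
    have hsg : toP Data.sigma ∈ Subgroup.closure (Set.range gperm) := Subgroup.subset_closure ⟨3, rfl⟩
    simpa using mul_mem (m22_le_closure hy) (inv_mem hsg)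
  · exact absurd (x.injective (e.trans e'.symm)) (by simp)

theorem closure_gperm : Subgroup.closure (Set.range gperm) = duadP := by
  refine le_antisymm ((Subgroup.closure_le _).2 ?_) duadP_le
  obtain ⟨hg, -⟩ := gens_check
  have h22 : ∀ g ∈ gPP, toP g ∈ Spor.M22 := fun g hgm => by
    have h := List.all_eq_true.mp hg g hgm
    rw [Bool.and_eq_true] at h
    rw [M22_eq, ← chain_eq]
    exact mem_of_sift cgAutM22_ok.1 h.1 h.2
  have hin : ∀ x ∈ Spor.M22, x ∈ duadP := fun x hx => by
    obtain ⟨h1, h2, h3⟩ := (m22_iff x).mp hx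
    exact Subgroup.mem_inf.mpr ⟨h1, by
      rw [MulAction.mem_stabilizer_iff, Set.smul_set_insert, Set.smul_set_singleton, Equiv.Perm.smul_def,
        Equiv.Perm.smul_def, h2, h3]⟩
  rintro _ ⟨i, rfl⟩
  fin_cases i
  · exact hin _ (h22 _ (by simp [gPP]))
  · exact hin _ (h22 _ (by simp [gPP]))
  · exact hin _ (h22 _ (by simp [gPP]))
  · obtain ⟨hs, hsa, hsb⟩ := sigma_swaps
    refine Subgroup.mem_inf.mpr ⟨hs, ?_⟩
    show gperm 3 ∈ _
    rw [MulAction.mem_stabilizer_iff, Set.smul_set_insert, Set.smul_set_singleton, Equiv.Perm.smul_def,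
      Equiv.Perm.smul_def, show gperm 3 = toP Data.sigma from rfl, hsa, hsb, Set.pair_comm]

/-- The subgroup generated by the pairs. -/
noncomputable def pairH (g : Fin 4 → Spor.J4) : Subgroup (Equiv.Perm GolayPt × Spor.J4) :=
  Subgroup.closure (Set.range fun i => (gperm i, g i))

/-- A bound on the pairs gives the subgroup. -/
theorem exists_aut (g : Fin 4 → Spor.J4) (hH : Nat.card (pairH g) ≤ 887040) (h1 : g 0 ≠ 1) :
    Nonempty (↥(Subgroup.closure (Set.range g)) ≃* MulAut ↥Spor.M22) := by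
  haveI := Cfsg.Lib.J4Cert.finite_J4
  obtain ⟨eP⟩ := duadStab_aut
  have hP : Nat.card duadP = 887040 := (Nat.card_congr eP.toEquiv).trans card_aut_M22.1
  let fst : pairH g →* Equiv.Perm GolayPt := (MonoidHom.fst _ _).comp (pairH g).subtype
  let snd : pairH g →* Spor.J4 := (MonoidHom.snd _ _).comp (pairH g).subtype
  have hfr : fst.range = duadP := by
    rw [MonoidHom.range_comp, Subgroup.range_subtype, pairH, MonoidHom.map_closure, ← Set.range_comp]
    exact closure_gperm
  have hsr : snd.range = Subgroup.closure (Set.range g) := by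
    rw [MonoidHom.range_comp, Subgroup.range_subtype, pairH, MonoidHom.map_closure, ← Set.range_comp]
    rfl
  let f : pairH g →* duadP := fst.codRestrict duadP fun x => hfr ▸ ⟨x, rfl⟩
  have hf : Function.Surjective f := fun y => by
    have hy : (y : Equiv.Perm GolayPt) ∈ fst.range := by rw [hfr]; exact y.2
    obtain ⟨x, hx⟩ := hy
    exact ⟨x, Subtype.ext hx⟩
  have hb : Function.Bijective f := (Nat.bijective_iff_surjective_and_card f).2
    ⟨hf, le_antisymm (hH.trans hP.ge) (Nat.card_le_card_of_surjective f hf)⟩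
  let e : pairH g ≃* duadP := MulEquiv.ofBijective f hb
  let φ : duadP →* Spor.J4 := snd.comp e.symm.toMonoidHom
  have hle : Spor.M22 ≤ duadP := closure_gperm ▸ m22_le_closure
  have hφa : φ ⟨gperm 0, closure_gperm ▸ Subgroup.subset_closure ⟨0, rfl⟩⟩ = g 0 := by
    let x : pairH g := ⟨(gperm 0, g 0), Subgroup.subset_closure ⟨0, rfl⟩⟩
    exact congrArg snd (e.symm_apply_apply x)
  have hinj : Function.Injective φ := by
    haveI := isSimple_M22
    have hk22 : ∀ x : duadP, φ x = 1 → (x : Equiv.Perm GolayPt) ∈ Spor.M22 → x = 1 := by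
      let ψ : Spor.M22 →* Spor.J4 := φ.comp (Subgroup.inclusion hle)
      have hψ : Function.Injective ψ := by
        rw [← MonoidHom.ker_eq_bot_iff]
        rcases (MonoidHom.normal_ker ψ).eq_bot_or_eq_top with h | h
        · exact h
        · exfalso
          have h22 : gperm 0 ∈ Spor.M22 := by
            obtain ⟨hg, -⟩ := gens_check
            have h' := List.all_eq_true.mp hg Data.alpha (by simp [gPP])
            rw [Bool.and_eq_true] at h'
            show toP Data.alpha ∈ _
            rw [M22_eq, ← chain_eq]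
            exact mem_of_sift cgAutM22_ok.1 h'.1 h'.2
          have : (⟨gperm 0, h22⟩ : Spor.M22) ∈ ψ.ker := h ▸ Subgroup.mem_top _
          exact h1 (hφa.symm.trans this)
      intro x hx hm
      have : (⟨x.1, hm⟩ : Spor.M22) = 1 := hψ (hx.trans (map_one ψ).symm)
      exact Subtype.ext (congrArg (fun y : Spor.M22 => (y : Equiv.Perm GolayPt)) this)
    rw [injective_iff_map_eq_one]
    intro x hx
    by_cases hm : (x : Equiv.Perm GolayPt) ∈ Spor.M22
    · exact hk22 x hx hm
    exfalso
    obtain ⟨hx1, hx2⟩ := Subgroup.mem_inf.mp x.2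
    have hset : (x : Equiv.Perm GolayPt) • ({none, some 0} : Set GolayPt) = {none, some 0} :=
      MulAction.mem_stabilizer_iff.mp hx2
    have hxa : (x : Equiv.Perm GolayPt) none ∈ ({none, some 0} : Set GolayPt) := hset ▸ ⟨none, Or.inl rfl, rfl⟩
    have hxb : (x : Equiv.Perm GolayPt) (some 0) ∈ ({none, some 0} : Set GolayPt) := hset ▸ ⟨some 0, Or.inr rfl, rfl⟩
    rcases hxa with ea | ea <;> rcases hxb with eb | eb
    · exact absurd ((x : Equiv.Perm GolayPt).injective (ea.trans eb.symm)) (by simp)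
    · exact hm ((m22_iff _).mpr ⟨hx1, ea, eb⟩)
    · obtain ⟨-, hnorm, hout⟩ := Cfsg.Agent.S5599.result _ hx1 ea eb
      refine hout ⟨1, one_mem _, fun y hy => ?_⟩
      have hy' : (x : Equiv.Perm GolayPt) * y * (x : Equiv.Perm GolayPt)⁻¹ * y⁻¹ ∈ Spor.M22 :=
        mul_mem (hnorm y hy) (inv_mem hy)
      have h := hk22 (x * ⟨y, hle hy⟩ * x⁻¹ * ⟨y, hle hy⟩⁻¹) (by simp [hx]) hy'
      have e' := congrArg Subtype.val h
      simp only [Subgroup.coe_mul, Subgroup.coe_inv, Subgroup.coe_one, mul_inv_eq_one] at e'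
      simpa using e'
    · exact absurd ((x : Equiv.Perm GolayPt).injective (ea.trans eb.symm)) (by simp)
  have hφr : φ.range = Subgroup.closure (Set.range g) := by
    rw [← hsr, MonoidHom.range_eq_map, ← Subgroup.map_map, Subgroup.map_top_of_surjective _ e.symm.surjective,
      ← MonoidHom.range_eq_map]
  exact ⟨((MulEquiv.subgroupCongr hφr.symm).trans (MonoidHom.ofInjective hinj).symm).trans eP⟩

end Cfsg.Lib.J4NonLocal.AutM
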