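import Cfsg.Agent.J4NonLocal.AutM.Data.Tables
import Cfsg.Agent.J4NonLocal.AutM.Data.Levels
import Cfsg.Agent.J4Cert.Mat
import Cfsg.Agent.J4Cert.SylDef
import Cfsg.Agent.Golay.FusionCert

/-!
The finite checks: evaluation of the elements of the certificates.
-/

set_option autoImplicit false
set_option maxRecDepth 20000

namespace Cfsg.Lib.J4NonLocal.AutM

open Cfsg.Lib.J4Cert Cfsg.Lib.PermCert

/-- The matrices by index: the letters and the further ones. -/
def nd (k : ℕ) : List ℕ := bif Nat.blt k 4 then letM k else ndTab.get (k - 4)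

/-- The matrix of an element. -/
def aM (k : ℕ) : List ℕ := nd (amNode.getD k 0)

/-- The permutation of an element. -/
def aP (k : ℕ) : PP := amPerm.getD k (0, 0)

/-- The product of the matrices of some elements. -/
def prodA : List ℕ → List ℕ
  | [] => J4Rep.idMat
  | [a] => aM a
  | a :: b :: l => mB (aM a) (prodA (b :: l))

/-- The elements that differ from the identity. -/
def strip (l : List ℕ) : List ℕ := l.filter fun q => !Nat.beq q amOne

/-- A product of two elements is a product of a list, in both components. -/
def eqA (s t : ℕ) (l : List ℕ) : Bool :=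
  leq (mB (aM s) (aM t)) (prodA (strip l)) && Golay.FusionCert.same [aP s, aP t] ((strip l).map aP) &&
    Nat.blt s 105 && Nat.blt t 105 && l.all (fun q => Nat.blt q 105)

/-- The elements arise as products of earlier ones. -/
def stepOK (k : ℕ) (p : ℕ × ℕ) : Bool :=
  Nat.blt p.1 k && Nat.blt p.2 k && leq (mB (aM p.1) (aM p.2)) (aM k) &&
    Golay.FusionCert.same [aP k] [aP p.1, aP p.2]

end Cfsg.Lib.J4NonLocal.AutM
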